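import Mathlib
import Cfsg.Prelude.Def_ChevStructure
import Cfsg.Prelude.Def_LieTwisted
import Cfsg.Agent.Lib.Helper5.F4T.Tau
import Cfsg.Agent.Lib.Helper5.ChevFieldMap

set_option autoImplicit false

/-!
The field automorphisms of the Ree group `²F₄(q)` (for S2128).
-/

namespace Cfsg.Agent.Lib.Helper5.F4Out

open Cfsg Cfsg.Lie Cfsg.Agent.Lib.Helper5.ChevSym Cfsg.Agent.Lib.Helper5.ChevStruct
  Cfsg.Agent.Lib.Helper5.F4T

variable {K : Type*} [Field K]

theorem glMap_wordGL (f : K →+* K) (w : List (ℕ × K)) :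
    Matrix.GeneralLinearGroup.map f (wordGL chevF4 hF4 w) =
      wordGL chevF4 hF4 (w.map fun p => (p.1, f p.2)) := by
  apply Units.ext
  rw [wordGL_val, ← wordMat_map, ← wordGL_val chevF4 hF4 w]
  rfl

theorem map_f4PairWord (f : K →+* K) (e r rbar : ℕ) (t : K) :
    (f4PairWord e r rbar t).map (fun p => (p.1, f p.2)) = f4PairWord e r rbar (f t) := by
  simp [f4PairWord, map_pow]

theorem map_b2ClassWord (f : K →+* K) (e a b ab aab : ℕ) (t u : K) :
    (b2ClassWord e a b ab aab t u).map (fun p => (p.1, f p.2)) =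
      b2ClassWord e a b ab aab (f t) (f u) := by
  simp [b2ClassWord, map_pow, map_add]

theorem glMap_mem_twisted (f : K →+* K) (e : ℕ) :
    (twistedF4 K e).map (Matrix.GeneralLinearGroup.map f) ≤ twistedF4 K e := by
  unfold twistedF4 ChevalleyDatum.genSubgroup
  rw [MonoidHom.map_closure, Subgroup.closure_le]
  rintro _ ⟨g, ⟨w, hw, hg⟩, rfl⟩
  apply Subgroup.subset_closure
  refine ⟨w.map fun p => (p.1, f p.2), ?_, ?_⟩
  · rcases hw with ⟨t, hw | hw⟩ | ⟨t, u, hw | hw⟩
    · left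
      exact ⟨f t, Or.inl (by rw [hw, map_f4PairWord])⟩
    · left
      exact ⟨f t, Or.inr (by rw [hw, map_f4PairWord])⟩
    · right
      exact ⟨f t, f u, Or.inl (by rw [hw, map_b2ClassWord])⟩
    · right
      exact ⟨f t, f u, Or.inr (by rw [hw, map_b2ClassWord])⟩
  · rw [← wordMat_map, ← hg]
    rfl

/-- the action of a field endomorphism on `²F₄` -/
noncomputable def fieldHomF (f : K →+* K) (e : ℕ) : ↥(twistedF4 K e) →* ↥(twistedF4 K e) :=
  ((Matrix.GeneralLinearGroup.map f).comp (twistedF4 K e).subtype).codRestrict (twistedF4 K e)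
    (fun g => glMap_mem_twisted f e ⟨g.1, g.2, rfl⟩)

theorem fieldHomF_coe (f : K →+* K) (e : ℕ) (g : ↥(twistedF4 K e)) :
    ((fieldHomF f e g : ↥(twistedF4 K e)) : GL chevF4.Idx K) =
      Matrix.GeneralLinearGroup.map f (g : GL chevF4.Idx K) := rfl

theorem fieldHomF_comp (f g : K →+* K) (e : ℕ) (x : ↥(twistedF4 K e)) :
    fieldHomF f e (fieldHomF g e x) = fieldHomF (f.comp g) e x := by
  apply Subtype.ext
  apply Units.ext
  rw [fieldHomF_coe, fieldHomF_coe, fieldHomF_coe]
  ext i j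
  rfl

theorem fieldHomF_id (e : ℕ) (x : ↥(twistedF4 K e)) : fieldHomF (RingHom.id K) e x = x := by
  apply Subtype.ext
  apply Units.ext
  rw [fieldHomF_coe]
  ext i j
  rfl

/-- the field automorphisms of `²F₄` -/
noncomputable def fieldAutF (σ : K ≃+* K) (e : ℕ) : MulAut ↥(twistedF4 K e) :=
  MonoidHom.toMulEquiv (fieldHomF (σ : K →+* K) e) (fieldHomF (σ.symm : K →+* K) e)
    (by
      apply MonoidHom.ext
      intro x
      rw [MonoidHom.comp_apply, fieldHomF_comp]
      have : (σ.symm : K →+* K).comp (σ : K →+* K) = RingHom.id K := by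
        ext y
        exact σ.symm_apply_apply y
      rw [this, fieldHomF_id]
      rfl)
    (by
      apply MonoidHom.ext
      intro x
      rw [MonoidHom.comp_apply, fieldHomF_comp]
      have : (σ : K →+* K).comp (σ.symm : K →+* K) = RingHom.id K := by
        ext y
        exact σ.apply_symm_apply y
      rw [this, fieldHomF_id]
      rfl)

theorem fieldAutF_apply (σ : K ≃+* K) (e : ℕ) (x : ↥(twistedF4 K e)) :
    fieldAutF σ e x = fieldHomF (σ : K →+* K) e x := rfl

theorem fieldAutF_coe (σ : K ≃+* K) (e : ℕ) (x : ↥(twistedF4 K e)) :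
    ((fieldAutF σ e x : ↥(twistedF4 K e)) : GL chevF4.Idx K) =
      Matrix.GeneralLinearGroup.map (σ : K →+* K) (x : GL chevF4.Idx K) := rfl

theorem fieldAutF_inv_apply (σ : K ≃+* K) (e : ℕ) (x : ↥(twistedF4 K e)) :
    (fieldAutF σ e)⁻¹ x = fieldHomF (σ.symm : K →+* K) e x := rfl

/-- `σ ↦ φ_σ` is a homomorphism -/
noncomputable def fieldAutHomF (e : ℕ) : (K ≃+* K) →* MulAut ↥(twistedF4 K e) where
  toFun σ := fieldAutF σ e
  map_one' := by
    apply MulEquiv.ext
    intro x
    rw [fieldAutF_apply]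
    exact fieldHomF_id e x
  map_mul' σ τ := by
    apply MulEquiv.ext
    intro x
    rw [MulAut.mul_apply, fieldAutF_apply, fieldAutF_apply, fieldAutF_apply, fieldHomF_comp]
    rfl

theorem fieldAutHomF_apply (e : ℕ) (σ : K ≃+* K) (x : ↥(twistedF4 K e)) :
    ((fieldAutHomF e σ x : ↥(twistedF4 K e)) : GL chevF4.Idx K) =
      Matrix.GeneralLinearGroup.map (σ : K →+* K) (x : GL chevF4.Idx K) := rfl

/-- the action on a word of root elements -/
theorem fieldAutF_word (σ : K ≃+* K) (e : ℕ) (x : ↥(twistedF4 K e)) (w : List (ℕ × K))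
    (hx : (x : GL chevF4.Idx K) = wordGL chevF4 hF4 w) :
    ((fieldAutF σ e x : ↥(twistedF4 K e)) : GL chevF4.Idx K) =
      wordGL chevF4 hF4 (w.map fun p => (p.1, σ p.2)) := by
  rw [fieldAutF_coe, hx, glMap_wordGL]
  rfl

end Cfsg.Agent.Lib.Helper5.F4Out
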